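import Mathlib.AlgebraicGeometry.IdealSheaf.Subscheme
import Mathlib.AlgebraicGeometry.Morphisms.ClosedImmersion
import Mathlib.CategoryTheory.Limits.Shapes.Pullback.IsPullback.Basic
import Mathlib.Tactic

/-!
# The union of two closed subschemes is the pushout over their intersection
-/

set_option autoImplicit false
set_option linter.style.haveILetI false
set_option backward.isDefEq.respectTransparency false
set_option backward.isDefEq.respectTransparency.types false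

universe u

open CategoryTheory CategoryTheory.Limits AlgebraicGeometry TopologicalSpace Opposite

namespace Groth.Agent.ClosedUnion

variable {X Y Z W : Scheme.{u}}

/-- The hypotheses on a square of closed immersions. -/
structure Glues (a : X ⟶ Z) (b : Y ⟶ Z) (c : W ⟶ X) (d : W ⟶ Y) : Prop where
  ha : IsClosedImmersion a
  hb : IsClosedImmersion b
  hc : IsClosedImmersion c
  w : c ≫ a = d ≫ b
  union : ∀ z : Z, (∃ x, a x = z) ∨ ∃ y, b y = z
  inter : ∀ x y, a x = b y → ∃ w, c w = x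
  inf_eq : a.ker ⊓ b.ker = ⊥
  ker_le : (c ≫ a).ker ≤ a.ker ⊔ b.ker

variable {a : X ⟶ Z} {b : Y ⟶ Z} {c : W ⟶ X} {d : W ⟶ Y} (h : Glues a b c d)

include h in
lemma Glues.sec_injective {V : Z.Opens} (hV : IsAffineOpen V) (s t : Γ(Z, V))
    (ha : a.app V s = a.app V t) (hb : b.app V s = b.app V t) : s = t := by
  haveI := h.ha
  haveI := h.hb
  rw [← sub_eq_zero]
  have h1 : s - t ∈ (a.ker ⊓ b.ker).ideal ⟨V, hV⟩ := by
    rw [Scheme.IdealSheafData.ideal_inf, Pi.inf_apply, Submodule.mem_inf, Scheme.Hom.ker_apply, Scheme.Hom.ker_apply,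
      RingHom.mem_ker, RingHom.mem_ker, map_sub, map_sub, sub_eq_zero, sub_eq_zero]
    exact ⟨ha, hb⟩
  rw [h.inf_eq] at h1
  simpa using h1

include h in
lemma Glues.sec_surjective {V : Z.Opens} (hV : IsAffineOpen V) (x : Γ(X, a ⁻¹ᵁ V)) (y : Γ(Y, b ⁻¹ᵁ V))
    (hxy : c.appLE (a ⁻¹ᵁ V) ((c ≫ a) ⁻¹ᵁ V) le_rfl x = d.appLE (b ⁻¹ᵁ V) ((c ≫ a) ⁻¹ᵁ V) (by rw [h.w]; exact le_rfl) y) :
    ∃ s, a.app V s = x ∧ b.app V s = y := by
  haveI := h.ha
  haveI := h.hb
  haveI := h.hc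
  obtain ⟨s, rfl⟩ := a.app_surjective V hV x
  obtain ⟨t, rfl⟩ := b.app_surjective V hV y
  have h1 : (c ≫ a).appLE V ((c ≫ a) ⁻¹ᵁ V) le_rfl s = (d ≫ b).appLE V ((c ≫ a) ⁻¹ᵁ V) (by rw [h.w]) t := by
    rw [Scheme.Hom.comp_appLE, Scheme.Hom.comp_appLE]
    exact hxy
  have h2 : (c ≫ a).appLE V ((c ≫ a) ⁻¹ᵁ V) le_rfl t = (d ≫ b).appLE V ((c ≫ a) ⁻¹ᵁ V) (by rw [h.w]) t := by
    congr 3
    exact h.w
  have h3 : s - t ∈ (a.ker ⊔ b.ker).ideal ⟨V, hV⟩ := by
    refine h.ker_le _ ?_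
    rw [Scheme.Hom.ker_apply, RingHom.mem_ker, map_sub, sub_eq_zero, Scheme.Hom.app_eq_appLE]
    exact h1.trans h2.symm
  rw [Scheme.IdealSheafData.ideal_sup, Pi.sup_apply, Submodule.mem_sup, Scheme.Hom.ker_apply, Scheme.Hom.ker_apply] at h3
  obtain ⟨α, hα, β, hβ, hαβ⟩ := h3
  refine ⟨s - α, ?_, ?_⟩
  · rw [map_sub, RingHom.mem_ker.1 hα, sub_zero]
  · rw [show s - α = t + β by linear_combination -hαβ,
      map_add, RingHom.mem_ker.1 hβ, add_zero]

include h in
/-- Two morphisms out of an open piece agreeing on both closed parts are equal. -/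
lemma Glues.hom_ext {P T : Scheme.{u}} (j : P ⟶ Z) [IsOpenImmersion j] (m m' : P ⟶ T)
    (ea : ∀ {Q : Scheme.{u}} (q : Q ⟶ X) (r : Q ⟶ P), q ≫ a = r ≫ j → r ≫ m = r ≫ m')
    (eb : ∀ {Q : Scheme.{u}} (q : Q ⟶ Y) (r : Q ⟶ P), q ≫ b = r ≫ j → r ≫ m = r ≫ m') : m = m' := by
  haveI := h.ha
  haveI := h.hb
  have hbase : ∀ p, m p = m' p := by
    intro p
    rcases h.union (j p) with ⟨x, hx⟩ | ⟨y, hy⟩
    · obtain ⟨q, hq₁, hq₂⟩ := Scheme.Pullback.exists_preimage_pullback x p hx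
      rw [← hq₂]
      exact congr($(ea _ (pullback.snd a j) pullback.condition) q)
    · obtain ⟨q, hq₁, hq₂⟩ := Scheme.Pullback.exists_preimage_pullback y p hy
      rw [← hq₂]
      exact congr($(eb _ (pullback.snd b j) pullback.condition) q)
  refine Scheme.hom_ext_of_forall _ _ fun p => ?_
  obtain ⟨T₀, hT₀, hpT, -⟩ := exists_isAffineOpen_mem_and_subset (X := T) (x := m p) (U := ⊤) trivial
  obtain ⟨U, hU, hpU, hUT⟩ := exists_isAffineOpen_mem_and_subset (X := P) (x := p) (U := m ⁻¹ᵁ T₀) hpT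
  refine ⟨U, hpU, ?_⟩
  have hUT' : U ≤ m' ⁻¹ᵁ T₀ := fun q hq => by
    show m' q ∈ T₀
    rw [← hbase]
    exact hUT hq
  have hV : IsAffineOpen (j ''ᵁ U) := hU.image_of_isOpenImmersion j
  have key : ∀ {K : Scheme.{u}} (k : K ⟶ Z) [IsClosedImmersion k],
      (∀ {Q : Scheme.{u}} (q : Q ⟶ K) (r : Q ⟶ P), q ≫ k = r ≫ j → r ≫ m = r ≫ m') →
      k.app (j ''ᵁ U) ((j.appIso U).inv (m.appLE T₀ U hUT (0 : Γ(T, T₀)))) = 0 ∧
      ∀ z : Γ(T, T₀), k.app (j ''ᵁ U) ((j.appIso U).inv (m.appLE T₀ U hUT z)) =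
        k.app (j ''ᵁ U) ((j.appIso U).inv (m'.appLE T₀ U hUT' z)) := by
    intro K k _ ek
    refine ⟨by simp, fun z => ?_⟩
    have hK := hV.preimage k
    let q := hK.fromSpec
    let r : Spec Γ(K, k ⁻¹ᵁ j ''ᵁ U) ⟶ P :=
      Spec.map (k.app (j ''ᵁ U)) ≫ Spec.map (j.appIso U).inv ≫ hU.fromSpec
    have hr : q ≫ k = r ≫ j := by
      simp only [r, q, Category.assoc, Scheme.Hom.app_eq_appLE]
      rw [← IsAffineOpen.SpecMap_appLE_fromSpec j hV hU (j.preimage_image_eq U).ge,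
        ← Spec.map_comp_assoc (j.appLE _ _ _), ← Scheme.Hom.appIso_hom', Iso.hom_inv_id, Spec.map_id, Category.id_comp,
        IsAffineOpen.SpecMap_appLE_fromSpec k hV hK]
    have e := ek q r hr
    simp only [r, Category.assoc, ← IsAffineOpen.SpecMap_appLE_fromSpec _ hT₀ hU hUT,
      ← IsAffineOpen.SpecMap_appLE_fromSpec _ hT₀ hU hUT', ← Spec.map_comp_assoc, cancel_mono] at e
    exact congr($(Spec.map_injective e) z)
  have e : m.appLE T₀ U hUT = m'.appLE T₀ U hUT' := by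
    ext z
    have := h.sec_injective hV _ _ ((key a ea).2 z) ((key b eb).2 z)
    exact (j.appIso U).commRingCatIsoToRingEquiv.symm.injective this
  rw [← hU.isoSpec_hom_fromSpec, Category.assoc, Category.assoc,
    ← IsAffineOpen.SpecMap_appLE_fromSpec _ hT₀ hU hUT, ← IsAffineOpen.SpecMap_appLE_fromSpec _ hT₀ hU hUT', e]

include h in
/-- Existence of the glued morphism. -/
lemma Glues.exists_desc {T : Scheme.{u}} (hX : X ⟶ T) (hY : Y ⟶ T) (e : c ≫ hX = d ≫ hY) :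
    ∃ M : Z ⟶ T, a ≫ M = hX ∧ b ≫ M = hY := by
  haveI := h.ha
  haveI := h.hb
  haveI := h.hc
  have hloc : ∀ z : Z, ∃ (V : Z.Opens) (T₀ : T.Opens), IsAffineOpen V ∧ IsAffineOpen T₀ ∧ z ∈ V ∧
      a ⁻¹ᵁ V ≤ hX ⁻¹ᵁ T₀ ∧ b ⁻¹ᵁ V ≤ hY ⁻¹ᵁ T₀ := by
    intro z
    obtain ⟨t, htx, hty⟩ : ∃ t : T, (∀ x, a x = z → hX x = t) ∧ ∀ y, b y = z → hY y = t := by
      by_cases hz : ∃ x, a x = z
      · obtain ⟨x, rfl⟩ := hz
        refine ⟨hX x, fun x' hx' => by rw [a.isClosedEmbedding.injective hx'], fun y hy => ?_⟩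
        obtain ⟨w, rfl⟩ := h.inter x y hy.symm
        have hw : b (d w) = a (c w) := congr($(h.w.symm) w)
        rw [b.isClosedEmbedding.injective (hy.trans hw.symm)]
        exact congr($(e.symm) w)
      · obtain ⟨y, rfl⟩ := (h.union z).resolve_left hz
        exact ⟨hY y, fun x hx => (hz ⟨x, hx⟩).elim, fun y' hy' => by rw [b.isClosedEmbedding.injective hy']⟩
    obtain ⟨T₀, hT₀, htT, -⟩ := exists_isAffineOpen_mem_and_subset (X := T) (x := t) (U := ⊤) trivial
    let O : Z.Opens := ⟨(a '' ((hX ⁻¹ᵁ T₀ : X.Opens) : Set X)ᶜ ∪ b '' ((hY ⁻¹ᵁ T₀ : Y.Opens) : Set Y)ᶜ)ᶜ,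
      ((a.isClosedEmbedding.isClosedMap _ (hX ⁻¹ᵁ T₀).isOpen.isClosed_compl).union
        (b.isClosedEmbedding.isClosedMap _ (hY ⁻¹ᵁ T₀).isOpen.isClosed_compl)).isOpen_compl⟩
    have hzO : z ∈ O := by
      rintro (⟨x, hx, hxz⟩ | ⟨y, hy, hyz⟩)
      · exact hx (show hX x ∈ T₀ from (htx x hxz).symm ▸ htT)
      · exact hy (show hY y ∈ T₀ from (hty y hyz).symm ▸ htT)
    obtain ⟨V, hV, hzV, hVO⟩ := exists_isAffineOpen_mem_and_subset (X := Z) (x := z) (U := O) hzO
    exact ⟨V, T₀, hV, hT₀, hzV,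
      fun x hx => by_contra fun hn => hVO hx (Or.inl ⟨x, hn, rfl⟩),
      fun y hy => by_contra fun hn => hVO hy (Or.inr ⟨y, hn, rfl⟩)⟩
  choose V T₀ hV hT₀ hzV hXV hYV using hloc
  have hφ : ∀ z, ∃ φ : Γ(T, T₀ z) ⟶ Γ(Z, V z),
      φ ≫ a.app (V z) = hX.appLE (T₀ z) _ (hXV z) ∧ φ ≫ b.app (V z) = hY.appLE (T₀ z) _ (hYV z) := by
    intro z
    have hs : ∀ u : Γ(T, T₀ z), ∃ s, a.app (V z) s = hX.appLE (T₀ z) _ (hXV z) u ∧
        b.app (V z) s = hY.appLE (T₀ z) _ (hYV z) u := fun u => by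
      refine h.sec_surjective (hV z) _ _ ?_
      rw [← CommRingCat.comp_apply, ← CommRingCat.comp_apply, Scheme.Hom.appLE_comp_appLE, Scheme.Hom.appLE_comp_appLE]
      congr 3
    choose s hs₁ hs₂ using hs
    refine ⟨CommRingCat.ofHom
      { toFun := s, map_one' := ?_, map_mul' := fun u v => ?_, map_zero' := ?_, map_add' := fun u v => ?_ },
      CommRingCat.hom_ext (RingHom.ext hs₁), CommRingCat.hom_ext (RingHom.ext hs₂)⟩ <;>
    refine h.sec_injective (hV z) _ _ ?_ ?_ <;> simp [hs₁, hs₂]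
  choose φ hφa hφb using hφ
  let 𝒰 : Z.AffineOpenCover :=
    { I₀ := Z
      X := fun z => Γ(Z, V z)
      f := fun z => (hV z).fromSpec
      idx := id
      covers := fun z => (Set.ext_iff.1 (hV z).range_fromSpec z).2 (hzV z)
      map_prop := fun z => inferInstance }
  let f : ∀ z : Z, Spec Γ(Z, V z) ⟶ T := fun z => Spec.map (φ z) ≫ (hT₀ z).fromSpec
  have piece : ∀ {K : Scheme.{u}} (k : K ⟶ Z) [IsClosedImmersion k] (hK : K ⟶ T)
      (le : ∀ z, k ⁻¹ᵁ V z ≤ hK ⁻¹ᵁ T₀ z), (∀ z, φ z ≫ k.app (V z) = hK.appLE (T₀ z) _ (le z)) →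
      ∀ (z : Z) {Q : Scheme.{u}} (q : Q ⟶ K) (r : Q ⟶ Spec Γ(Z, V z)), q ≫ k = r ≫ (hV z).fromSpec →
        r ≫ f z = q ≫ hK := by
    intro K k _ hK le hk z Q q r hqr
    have hW := (hV z).preimage k
    have hr : Set.range q ⊆ Set.range hW.fromSpec := by
      rintro _ ⟨x, rfl⟩
      rw [hW.range_fromSpec]
      show k (q x) ∈ V z
      rw [show k (q x) = (hV z).fromSpec (r x) from congr($hqr x)]
      exact (Set.ext_iff.1 (hV z).range_fromSpec _).1 ⟨r x, rfl⟩
    obtain ⟨l, hl⟩ : ∃ l, l ≫ hW.fromSpec = q :=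
      ⟨IsOpenImmersion.lift hW.fromSpec q hr, IsOpenImmersion.lift_fac _ _ _⟩
    have hsq : Spec.map (k.app (V z)) ≫ (hV z).fromSpec = hW.fromSpec ≫ k := by
      rw [Scheme.Hom.app_eq_appLE]; exact IsAffineOpen.SpecMap_appLE_fromSpec k (hV z) hW _
    have hlr : l ≫ Spec.map (k.app (V z)) = r := by
      rw [← cancel_mono (hV z).fromSpec, Category.assoc, hsq, reassoc_of% hl, hqr]
    rw [← hlr, ← hl]
    simp only [f, Category.assoc, ← Spec.map_comp_assoc]
    rw [hk z, IsAffineOpen.SpecMap_appLE_fromSpec]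
  have hcompat : ∀ z z' : Z, pullback.fst (hV z).fromSpec (hV z').fromSpec ≫ f z =
      pullback.snd (hV z).fromSpec (hV z').fromSpec ≫ f z' := by
    intro z z'
    refine h.hom_ext (pullback.fst (hV z).fromSpec (hV z').fromSpec ≫ (hV z).fromSpec) _ _
      (fun q r hqr => ?_) (fun q r hqr => ?_)
    · rw [← Category.assoc r, ← Category.assoc r, piece a hX hXV hφa z q _ (by rw [hqr, Category.assoc]),
        piece a hX hXV hφa z' q _ (by rw [hqr, pullback.condition, Category.assoc])]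
    · rw [← Category.assoc r, ← Category.assoc r, piece b hY hYV hφb z q _ (by rw [hqr, Category.assoc]),
        piece b hY hYV hφb z' q _ (by rw [hqr, pullback.condition, Category.assoc])]
  let M : Z ⟶ T := 𝒰.openCover.glueMorphisms f hcompat
  have hM : ∀ z, (hV z).fromSpec ≫ M = f z := fun z => 𝒰.openCover.ι_glueMorphisms f hcompat z
  have descend : ∀ {K : Scheme.{u}} (k : K ⟶ Z) [IsClosedImmersion k] (hK : K ⟶ T)
      (le : ∀ z, k ⁻¹ᵁ V z ≤ hK ⁻¹ᵁ T₀ z), (∀ z, φ z ≫ k.app (V z) = hK.appLE (T₀ z) _ (le z)) → k ≫ M = hK := by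
    intro K k _ hK le hk
    refine Scheme.hom_ext_of_forall _ _ fun x => ⟨k ⁻¹ᵁ V (k x), hzV (k x), ?_⟩
    have hW := (hV (k x)).preimage k
    have hsq : hW.fromSpec ≫ k = Spec.map (k.app (V (k x))) ≫ (hV (k x)).fromSpec := by
      rw [Scheme.Hom.app_eq_appLE]; exact (IsAffineOpen.SpecMap_appLE_fromSpec k (hV (k x)) hW _).symm
    rw [← hW.isoSpec_hom_fromSpec, Category.assoc, Category.assoc, reassoc_of% hsq, hM,
      piece k hK le hk _ hW.fromSpec _ hsq]
  exact ⟨M, descend a hX hXV hφa, descend b hY hYV hφb⟩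

include h in
/-- The square is a pushout. -/
theorem Glues.isPushout : IsPushout c d a b := by
  choose M hMa hMb using fun s : PushoutCocone c d => h.exists_desc s.inl s.inr s.condition
  refine ⟨⟨h.w⟩, ⟨PushoutCocone.IsColimit.mk _ M hMa hMb fun s m ha hb => ?_⟩⟩
  refine h.hom_ext (𝟙 Z) _ _ (fun q r hqr => ?_) (fun q r hqr => ?_)
  · rw [Category.comp_id] at hqr
    rw [← hqr, Category.assoc, Category.assoc, ha, hMa]
  · rw [Category.comp_id] at hqr
    rw [← hqr, Category.assoc, Category.assoc, hb, hMb]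

open Scheme IdealSheafData

theorem glues (S : Scheme.{u}) (I J : S.IdealSheafData) :
    Glues (inclusion (inf_le_left : I ⊓ J ≤ I)) (inclusion (inf_le_right : I ⊓ J ≤ J))
      (inclusion (le_sup_left : I ≤ I ⊔ J)) (inclusion (le_sup_right : J ≤ I ⊔ J)) := by
  set K := I ⊓ J
  have hci : ∀ {A B : S.IdealSheafData} (hAB : A ≤ B), IsClosedImmersion (inclusion hAB) := fun hAB =>
    haveI : IsClosedImmersion (inclusion hAB ≫ Scheme.IdealSheafData.subschemeι _) := by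
      rw [inclusion_subschemeι]; infer_instance
    IsClosedImmersion.of_comp_isClosedImmersion _ (Scheme.IdealSheafData.subschemeι _)
  have hcong : ∀ {A B : Scheme.{u}} (f g : A ⟶ B), f = g → ∀ V : B.Opens,
      RingHom.ker (f.app V).hom = RingHom.ker (g.app V).hom := by rintro _ _ _ _ rfl _; rfl
  let U' : S.affineOpens → K.subscheme.affineOpens := fun U => ⟨K.subschemeι ⁻¹ᵁ U, U.2.preimage K.subschemeι⟩
  have hU' : ⨆ U, (U' U).1 = ⊤ := by
    rw [← Scheme.Hom.preimage_iSup, iSup_affineOpens_eq_top, Scheme.Hom.preimage_top]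
  have hker : ∀ {B : S.IdealSheafData} (hKB : K ≤ B) (U : S.affineOpens),
      (inclusion hKB).ker.ideal (U' U) = (B.ideal U).map (K.subschemeι.app U).hom := by
    intro B hKB U
    haveI := hci hKB
    apply Ideal.comap_injective_of_surjective _ (K.subschemeι_app_surjective U)
    rw [Ideal.comap_map_of_surjective _ (K.subschemeι_app_surjective U), ← RingHom.ker_eq_comap_bot,
      ker_subschemeι_app, sup_eq_left.2 (hKB U), Scheme.Hom.ker_apply, RingHom.comap_ker, ← CommRingCat.hom_comp,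
      ← Scheme.Hom.comp_app, ← ker_subschemeι_app B U]
    exact hcong _ _ (inclusion_subschemeι hKB) U.1
  refine ⟨hci _, hci _, hci _, ?_, fun z => ?_, fun x y hxy => ?_, ?_, ?_⟩
  · rw [inclusion_comp, inclusion_comp]
  · have hz : K.subschemeι z ∈ (I * J).support := by
      refine support_antitone (show I * J ≤ K from fun U => ?_) ((Set.ext_iff.1 K.range_subschemeι _).1 ⟨z, rfl⟩)
      rw [ideal_mul, ideal_inf]
      exact Ideal.mul_le_inf
    rw [support_mul] at hz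
    rcases hz with hz | hz
    · left
      obtain ⟨x, hx⟩ : K.subschemeι z ∈ Set.range I.subschemeι := (Set.ext_iff.1 I.range_subschemeι _).2 hz
      exact ⟨x, K.subschemeι.isEmbedding.injective ((congr($(inclusion_subschemeι inf_le_left) x)).trans hx)⟩
    · right
      obtain ⟨x, hx⟩ : K.subschemeι z ∈ Set.range J.subschemeι := (Set.ext_iff.1 J.range_subschemeι _).2 hz
      exact ⟨x, K.subschemeι.isEmbedding.injective ((congr($(inclusion_subschemeι inf_le_right) x)).trans hx)⟩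
  · have h1 : I.subschemeι x = J.subschemeι y := by
      rw [← inclusion_subschemeι (inf_le_left : K ≤ I), ← inclusion_subschemeι (inf_le_right : K ≤ J)]
      exact congrArg K.subschemeι hxy
    have hm : I.subschemeι x ∈ Set.range (I ⊔ J).subschemeι := by
      rw [range_subschemeι, support_sup]
      exact ⟨(Set.ext_iff.1 I.range_subschemeι _).1 ⟨x, rfl⟩, h1 ▸ (Set.ext_iff.1 J.range_subschemeι _).1 ⟨y, rfl⟩⟩
    obtain ⟨w, hw⟩ := hm
    exact ⟨w, I.subschemeι.isEmbedding.injective ((congr($(inclusion_subschemeι le_sup_left) w)).trans hw)⟩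
  · refine ext_of_iSup_eq_top U' hU' fun U => ?_
    apply Ideal.comap_injective_of_surjective _ (K.subschemeι_app_surjective U)
    rw [ideal_inf, Pi.inf_apply, hker, hker, Ideal.comap_inf, Ideal.comap_map_of_surjective _ (K.subschemeι_app_surjective U),
      Ideal.comap_map_of_surjective _ (K.subschemeι_app_surjective U), ideal_bot, Pi.bot_apply, ← RingHom.ker_eq_comap_bot,
      ker_subschemeι_app, sup_eq_left.2 ((inf_le_left : K ≤ I) U), sup_eq_left.2 ((inf_le_right : K ≤ J) U)]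
    rfl
  · rw [inclusion_comp]
    refine le_of_iSup_eq_top U' hU' fun U => ?_
    rw [ideal_sup, Pi.sup_apply, hker, hker, hker, ← Ideal.map_sup, ideal_sup, Pi.sup_apply]

end Groth.Agent.ClosedUnion
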